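import Groth.Agent.Fixpt.H903.Fulton
import Groth.Agent.Fixpt.H903.UnitFib
import Groth.Agent.Fdesc.StructMod

/-!
# Fulton's count of rational points of a proper scheme over a finite field (no smoothness)
-/

set_option autoImplicit false
universe u

open CategoryTheory CategoryTheory.Limits AlgebraicGeometry Opposite

namespace Groth.Agent.Fixpt.H903.CountPts

/-- For `X` proper over the finite field `k` with `q` elements and `φ` the `q`-th power map on `O_X`, the
alternating sum of the traces of `φ` on `H^i(X, O_X)` is the number of rational points. -/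
theorem card_ratPt (k : Type u) [Field k] [Fintype k] (X : Scheme.{u}) [X.Over (Spec (CommRingCat.of k))]
    [IsProper (X ↘ Spec (CommRingCat.of k))]
    (φ : Coh.toAb (Coh.structureModule X) ⟶ Coh.toAb (Coh.structureModule X))
    (hφ : ∀ (U : (X.Opens)ᵒᵖ) (a : X.ringCatSheaf.obj.obj U), φ.hom.app U a = a ^ Fintype.card k) :
    FixPt.cohLef k X (Coh.structureModule X) φ = (Nat.card (FixPt.RatPt k X) : k) := by
  letI := fun (x : X) => FixPt.fiberModule k X (Coh.structureModule X) x
  have hfin := Groth.Agent.Fixpt.H34.RatPts.finite_ratPt (k := k) (X := X)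
  rw [← Groth.Agent.Fixpt.H903.UnitFib.finsum_trace_id (k := k) (X := X)]
  exact Groth.Agent.Fixpt.H903.Fulton.fulton k X (Coh.structureModule X)
    (Groth.Agent.Fdesc.StructMod.isCoh_structureModule X) φ
    (Groth.Agent.Fixpt.H903.UnitFib.semi φ hφ) (fun _ => LinearMap.id)
    (fun s v => Groth.Agent.Fixpt.H903.UnitFib.fiberMk_frob φ hφ s v)

/-- The same for a morphism `b : X ⟶ Spec k` (structure given by `b`). -/
theorem card_ratPt_hom (k : Type u) [Field k] [Fintype k] {X : Scheme.{u}} (b : X ⟶ Spec (CommRingCat.of k))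
    [IsProper b] (φ : Coh.toAb (Coh.structureModule X) ⟶ Coh.toAb (Coh.structureModule X))
    (hφ : ∀ (U : (X.Opens)ᵒᵖ) (a : X.ringCatSheaf.obj.obj U), φ.hom.app U a = a ^ Fintype.card k) :
    letI : X.Over (Spec (CommRingCat.of k)) := ⟨b⟩
    FixPt.cohLef k X (Coh.structureModule X) φ =
      (Nat.card {x : Spec (CommRingCat.of k) ⟶ X // x ≫ b = 𝟙 _} : k) := by
  letI : X.Over (Spec (CommRingCat.of k)) := ⟨b⟩
  haveI : IsProper (X ↘ Spec (CommRingCat.of k)) := ‹IsProper b›
  exact card_ratPt k X φ hφ

end Groth.Agent.Fixpt.H903.CountPts
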