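import Groth.Agent.Fixpt.H903.TrLin
import Mathlib.Algebra.Homology.DerivedCategory.Ext.ExactSequences
import Mathlib.Algebra.Homology.DerivedCategory.Ext.ExtClass

/-!
# Traces on Ext groups with an action of a field

`C` an abelian category with `Ext`, `P : C`.  For an object `F` with an action `ρ : k → End F` of a field `k`
the groups `Ext P F n` are `k`-modules (`modOf`), and an endomorphism `φ` of `F` commuting with `ρ` has a trace
`trE ρ φ n`.  We prove additivity of the alternating sum in short exact sequences, additivity in `φ`, cyclicity,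
vanishing for nilpotent `φ`.
-/

set_option autoImplicit false

universe w v u u'

open CategoryTheory CategoryTheory.Limits
open Groth.Agent.Fixpt.H903.TrLin

namespace Groth.Agent.Fixpt.H903.ExtTr

variable {C : Type u} [Category.{v} C] [Abelian C] [HasExt.{w} C] {k : Type u'} [Field k]

/-- An action of `k` on the object `F`. -/
structure Act (k : Type u') [Field k] (F : C) where
  /-- the action -/
  act : k → (F ⟶ F)
  act_one : act 1 = 𝟙 F
  act_mul : ∀ a b, act (a * b) = act b ≫ act a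
  act_add : ∀ a b, act (a + b) = act a + act b

variable (P : C)

/-- Composition with a morphism on `Ext`. -/
noncomputable def post {F G : C} (φ : F ⟶ G) (n : ℕ) : Abelian.Ext.{w} P F n →+ Abelian.Ext.{w} P G n :=
  AddMonoidHom.mk' (fun x => x.comp (Abelian.Ext.mk₀ φ) (add_zero n)) (fun _ _ => Abelian.Ext.add_comp _ _ _ _)

variable {P}

theorem post_apply {F G : C} (φ : F ⟶ G) (n : ℕ) (x : Abelian.Ext.{w} P F n) :
    post P φ n x = x.comp (Abelian.Ext.mk₀ φ) (add_zero n) := rfl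

theorem post_id {F : C} (n : ℕ) (x : Abelian.Ext.{w} P F n) : post P (𝟙 F) n x = x := by
  rw [post_apply, Abelian.Ext.comp_mk₀_id]

theorem post_comp {F G H : C} (φ : F ⟶ G) (ψ : G ⟶ H) (n : ℕ) (x : Abelian.Ext.{w} P F n) :
    post P (φ ≫ ψ) n x = post P ψ n (post P φ n x) := by
  simp [post_apply]

theorem post_add {F G : C} (φ ψ : F ⟶ G) (n : ℕ) (x : Abelian.Ext.{w} P F n) :
    post P (φ + ψ) n x = post P φ n x + post P ψ n x := by
  rw [post_apply, post_apply, post_apply, Abelian.Ext.mk₀_add, Abelian.Ext.comp_add]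

theorem post_zero {F G : C} (n : ℕ) (x : Abelian.Ext.{w} P F n) :
    post P (0 : F ⟶ G) n x = 0 := by
  simp [post_apply]

variable (P) in
/-- The module structure of `Ext P F n` attached to an action. -/
noncomputable abbrev modOf {F : C} (ρ : Act k F) (n : ℕ) : Module k (Abelian.Ext.{w} P F n) where
  smul c x := post P (ρ.act c) n x
  one_smul x := by
    change post P (ρ.act 1) n x = x
    rw [ρ.act_one, post_id]
  mul_smul a b x := by
    change post P (ρ.act (a * b)) n x = post P (ρ.act a) n (post P (ρ.act b) n x)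
    rw [ρ.act_mul, post_comp]
  smul_zero a := map_zero _
  smul_add a x y := map_add _ _ _
  add_smul a b x := by
    change post P (ρ.act (a + b)) n x = post P (ρ.act a) n x + post P (ρ.act b) n x
    rw [ρ.act_add, post_add]
  zero_smul x := by
    change post P (ρ.act 0) n x = 0
    have h : ρ.act 0 = 0 := by
      have := ρ.act_add 0 0
      rw [add_zero] at this
      exact left_eq_add.1 this
    rw [h, post_zero]

/-- `V P ρ n = Ext P F n` with the module structure given by `ρ`. -/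
def V (P : C) {F : C} (_ρ : Act k F) (n : ℕ) : Type w := Abelian.Ext.{w} P F n

noncomputable instance {F : C} (ρ : Act k F) (n : ℕ) : AddCommGroup (V P ρ n) :=
  inferInstanceAs (AddCommGroup (Abelian.Ext.{w} P F n))

noncomputable instance {F : C} (ρ : Act k F) (n : ℕ) : Module k (V P ρ n) := modOf P ρ n

theorem smul_def {F : C} (ρ : Act k F) (n : ℕ) (c : k) (x : V P ρ n) : c • x = post P (ρ.act c) n x := rfl

/-- Equivariance of a morphism. -/
def Equi {F G : C} (ρ : Act k F) (σ : Act k G) (φ : F ⟶ G) : Prop := ∀ c, ρ.act c ≫ φ = φ ≫ σ.act c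

theorem Equi.comp {F G H : C} {ρ : Act k F} {σ : Act k G} {τ : Act k H} {φ : F ⟶ G} {ψ : G ⟶ H}
    (h : Equi ρ σ φ) (h' : Equi σ τ ψ) : Equi ρ τ (φ ≫ ψ) := fun c => by
  rw [← Category.assoc, h c, Category.assoc, h' c, Category.assoc]

theorem Equi.add {F G : C} {ρ : Act k F} {σ : Act k G} {φ ψ : F ⟶ G}
    (h : Equi ρ σ φ) (h' : Equi ρ σ ψ) : Equi ρ σ (φ + ψ) := fun c => by
  rw [Preadditive.comp_add, Preadditive.add_comp, h c, h' c]

theorem Equi.zero {F G : C} (ρ : Act k F) (σ : Act k G) : Equi ρ σ (0 : F ⟶ G) := fun c => by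
  rw [comp_zero, zero_comp]

theorem Equi.id {F : C} (ρ : Act k F) : Equi ρ ρ (𝟙 F) := fun c => by
  rw [Category.comp_id, Category.id_comp]

variable (P) in
/-- The linear map induced by an equivariant morphism. -/
noncomputable def lin {F G : C} {ρ : Act k F} {σ : Act k G} (φ : F ⟶ G) (h : Equi ρ σ φ) (n : ℕ) :
    V P ρ n →ₗ[k] V P σ n where
  toFun x := post P φ n x
  map_add' x y := map_add (post P φ n) x y
  map_smul' c x := by
    change post P φ n (post P (ρ.act c) n x) = post P (σ.act c) n (post P φ n x)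
    rw [← post_comp, ← post_comp, h c]

theorem lin_apply {F G : C} {ρ : Act k F} {σ : Act k G} (φ : F ⟶ G) (h : Equi ρ σ φ) (n : ℕ) (x : V P ρ n) :
    lin P φ h n x = post P φ n x := rfl

theorem lin_comp {F G H : C} {ρ : Act k F} {σ : Act k G} {τ : Act k H} {φ : F ⟶ G} {ψ : G ⟶ H}
    (h : Equi ρ σ φ) (h' : Equi σ τ ψ) (n : ℕ) : lin P (φ ≫ ψ) (h.comp h') n = (lin P ψ h' n).comp (lin P φ h n) := by
  ext x
  exact post_comp φ ψ n x

theorem lin_add {F G : C} {ρ : Act k F} {σ : Act k G} {φ ψ : F ⟶ G}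
    (h : Equi ρ σ φ) (h' : Equi ρ σ ψ) (n : ℕ) : lin P (φ + ψ) (h.add h') n = lin P φ h n + lin P ψ h' n := by
  ext x
  exact post_add φ ψ n x

section les

variable {S : ShortComplex C} (hS : S.ShortExact) {ρ₁ : Act k S.X₁} {ρ₂ : Act k S.X₂} {ρ₃ : Act k S.X₃}
  (hf : Equi ρ₁ ρ₂ S.f) (hg : Equi ρ₂ ρ₃ S.g)

/-- The morphism of short complexes given by three compatible endomorphisms. -/
def homOf (φ₁ : S.X₁ ⟶ S.X₁) (φ₂ : S.X₂ ⟶ S.X₂) (φ₃ : S.X₃ ⟶ S.X₃)
    (c₁₂ : φ₁ ≫ S.f = S.f ≫ φ₂) (c₂₃ : φ₂ ≫ S.g = S.g ≫ φ₃) : S ⟶ S where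
  τ₁ := φ₁
  τ₂ := φ₂
  τ₃ := φ₃
  comm₁₂ := c₁₂
  comm₂₃ := c₂₃

include hS in
theorem natδ (φ₁ : S.X₁ ⟶ S.X₁) (φ₂ : S.X₂ ⟶ S.X₂) (φ₃ : S.X₃ ⟶ S.X₃)
    (c₁₂ : φ₁ ≫ S.f = S.f ≫ φ₂) (c₂₃ : φ₂ ≫ S.g = S.g ≫ φ₃) {n₀ n₁ : ℕ} (h : n₀ + 1 = n₁)
    (x : Abelian.Ext.{w} P S.X₃ n₀) :
    post P φ₁ n₁ (x.comp hS.extClass h) = (post P φ₃ n₀ x).comp hS.extClass h := by
  have := ShortComplex.ShortExact.extClass_naturality hS hS (homOf φ₁ φ₂ φ₃ c₁₂ c₂₃)
  simp only [homOf] at this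
  rw [post_apply, post_apply, Abelian.Ext.comp_assoc_of_second_deg_zero,
    Abelian.Ext.comp_assoc_of_third_deg_zero, this]

/-- The connecting map. -/
noncomputable def del (n₀ n₁ : ℕ) (h : n₀ + 1 = n₁) : V P ρ₃ n₀ →ₗ[k] V P ρ₁ n₁ where
  toFun x := Abelian.Ext.comp (X := P) x hS.extClass h
  map_add' x y := Abelian.Ext.add_comp _ _ _ _
  map_smul' c x := (natδ hS (ρ₁.act c) (ρ₂.act c) (ρ₃.act c) (hf c) (hg c) h x).symm

theorem del_apply (n₀ n₁ : ℕ) (h : n₀ + 1 = n₁) (x : V P ρ₃ n₀) :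
    del hS hf hg n₀ n₁ h x = Abelian.Ext.comp (X := P) x hS.extClass h := rfl

include hS in
theorem exact₂ (n : ℕ) : Function.Exact (lin P S.f hf n) (lin P S.g hg n) := by
  intro x
  constructor
  · intro hx
    exact Abelian.Ext.covariant_sequence_exact₂ _ hS x hx
  · rintro ⟨y, rfl⟩
    change post P S.g n (post P S.f n y) = 0
    rw [← post_comp, S.zero, post_zero]

theorem exact₃ (n₀ n₁ : ℕ) (h : n₀ + 1 = n₁) :
    Function.Exact (lin P S.g hg n₀) (del (P := P) hS hf hg n₀ n₁ h) := by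
  intro x
  constructor
  · intro hx
    exact Abelian.Ext.covariant_sequence_exact₃ _ hS x h hx
  · rintro ⟨y, rfl⟩
    change (post P S.g n₀ y).comp hS.extClass h = 0
    rw [post_apply, Abelian.Ext.comp_assoc_of_second_deg_zero, hS.comp_extClass, Abelian.Ext.comp_zero]

theorem exact₁ (n₀ n₁ : ℕ) (h : n₀ + 1 = n₁) :
    Function.Exact (del (P := P) hS hf hg n₀ n₁ h) (lin P S.f hf n₁) := by
  intro x
  constructor
  · intro hx
    exact Abelian.Ext.covariant_sequence_exact₁ _ hS x hx h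
  · rintro ⟨y, rfl⟩
    change post P S.f n₁ (Abelian.Ext.comp (X := P) y hS.extClass h) = 0
    rw [post_apply, Abelian.Ext.comp_assoc_of_third_deg_zero, hS.extClass_comp, Abelian.Ext.comp_zero]

include hS in
theorem injective₀ : Function.Injective (lin P S.f hf 0) := by
  have : Mono S.f := hS.mono_f
  exact Abelian.Ext.postcomp_mk₀_injective_of_mono _ S.f

variable (P) in
/-- The trace of the endomorphism of `Ext P F n` induced by `φ`. -/
noncomputable def trE {F : C} {ρ : Act k F} (φ : F ⟶ F) (h : Equi ρ ρ φ) (n : ℕ) : k :=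
  LinearMap.trace k (V P ρ n) (lin P φ h n)

variable (P) in
/-- The truncated alternating trace. -/
noncomputable def altE {F : C} {ρ : Act k F} (φ : F ⟶ F) (h : Equi ρ ρ φ) (N : ℕ) : k :=
  ∑ i ∈ Finset.range N, (-1 : k) ^ i * trE P φ h i

theorem trE_of_subsingleton {F : C} {ρ : Act k F} (φ : F ⟶ F) (h : Equi ρ ρ φ) (n : ℕ) [Subsingleton (V P ρ n)] :
    trE P φ h n = 0 := by
  have : lin P φ h n = 0 := by ext x; exact Subsingleton.elim _ _
  rw [trE, this, map_zero]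

theorem altE_stable {F : C} {ρ : Act k F} (φ : F ⟶ F) (h : Equi ρ ρ φ) (N M : ℕ) (hNM : N ≤ M)
    (v : ∀ i, N ≤ i → Subsingleton (V P ρ i)) : altE P φ h M = altE P φ h N := by
  obtain ⟨d, rfl⟩ := Nat.exists_eq_add_of_le hNM
  induction d with
  | zero => rfl
  | succ d ih =>
    have := v (N + d) (by omega)
    rw [← ih (by omega), altE, ← add_assoc, Finset.sum_range_succ, trE_of_subsingleton, mul_zero, add_zero, altE]

include hS hf hg in
/-- Additivity of the alternating trace. -/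
theorem altE_additive (φ₁ : S.X₁ ⟶ S.X₁) (φ₂ : S.X₂ ⟶ S.X₂) (φ₃ : S.X₃ ⟶ S.X₃)
    (h₁ : Equi ρ₁ ρ₁ φ₁) (h₂ : Equi ρ₂ ρ₂ φ₂) (h₃ : Equi ρ₃ ρ₃ φ₃)
    (c₁₂ : φ₁ ≫ S.f = S.f ≫ φ₂) (c₂₃ : φ₂ ≫ S.g = S.g ≫ φ₃)
    (f₁ : ∀ i, Module.Finite k (V P ρ₁ i)) (f₂ : ∀ i, Module.Finite k (V P ρ₂ i))
    (f₃ : ∀ i, Module.Finite k (V P ρ₃ i)) (N : ℕ) (v₁ : Subsingleton (V P ρ₁ (N + 1))) :
    altE P φ₂ h₂ (N + 1) = altE P φ₁ h₁ (N + 1) + altE P φ₃ h₃ (N + 1) := by
  have kf : ∀ i (x : V P ρ₁ i), lin P φ₂ h₂ i (lin P S.f hf i x) = lin P S.f hf i (lin P φ₁ h₁ i x) := by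
    intro i x
    change post P φ₂ i (post P S.f i x) = post P S.f i (post P φ₁ i x)
    rw [← post_comp, ← post_comp, c₁₂]
  have kg : ∀ i (x : V P ρ₂ i), lin P φ₃ h₃ i (lin P S.g hg i x) = lin P S.g hg i (lin P φ₂ h₂ i x) := by
    intro i x
    change post P φ₃ i (post P S.g i x) = post P S.g i (post P φ₂ i x)
    rw [← post_comp, ← post_comp, c₂₃]
  have kd : ∀ i (x : V P ρ₃ i), lin P φ₁ h₁ (i + 1) (del (P := P) hS hf hg i (i + 1) rfl x) =
      del hS hf hg i (i + 1) rfl (lin P φ₃ h₃ i x) := by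
    intro i x
    exact natδ hS φ₁ φ₂ φ₃ c₁₂ c₂₃ rfl x
  unfold altE
  rw [alt_telescope (fun i => trE P φ₁ h₁ i) (fun i => trE P φ₂ h₂ i) (fun i => trE P φ₃ h₃ i)
    (fun i => trOn (lin P φ₂ h₂ i) (LinearMap.range (lin P S.f hf i)))
    (fun i => trOn (lin P φ₃ h₃ i) (LinearMap.range (lin P S.g hg i)))
    (fun i => trOn (lin P φ₁ h₁ (i + 1)) (LinearMap.range (del (P := P) hS hf hg i (i + 1) rfl)))
    (fun i => trace_eq_trOn_add_trOn _ _ (exact₂ hS hf hg i) (lin P φ₁ h₁ i) _ _ (kf i) (kg i))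
    (fun i => trace_eq_trOn_add_trOn _ _ (exact₃ hS hf hg i (i + 1) rfl) (lin P φ₂ h₂ i) _ _ (kg i) (kd i))
    (fun i => trace_eq_trOn_add_trOn _ _ (exact₁ hS hf hg i (i + 1) rfl) (lin P φ₃ h₃ i) _ _ (kd i) (kf (i + 1)))
    ((trOn_range_of_injective _ (injective₀ hS hf) _ _ (kf 0)).symm)]
  have h0 : trOn (lin P φ₁ h₁ (N + 1)) (LinearMap.range (del (P := P) hS hf hg N (N + 1) rfl)) = 0 :=
    trOn_of_subsingleton _ _
  rw [h0, mul_zero, sub_zero]

end les

theorem trE_add {F : C} {ρ : Act k F} {φ ψ : F ⟶ F} (h : Equi ρ ρ φ) (h' : Equi ρ ρ ψ) (n : ℕ) :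
    trE P (φ + ψ) (h.add h') n = trE P φ h n + trE P ψ h' n := by
  rw [trE, lin_add, map_add, trE, trE]

theorem trE_comm {F G : C} {ρ : Act k F} {σ : Act k G} {φ : F ⟶ G} {ψ : G ⟶ F} (h : Equi ρ σ φ)
    (h' : Equi σ ρ ψ) (n : ℕ) [Module.Finite k (V P ρ n)] [Module.Finite k (V P σ n)] :
    trE P (φ ≫ ψ) (h.comp h') n = trE P (ψ ≫ φ) (h'.comp h) n := by
  rw [trE, trE, lin_comp h h', lin_comp h' h]
  exact LinearMap.trace_comp_comm' _ _

theorem trE_eq_of_eq {F : C} {ρ : Act k F} {φ ψ : F ⟶ F} (h : Equi ρ ρ φ) (h' : Equi ρ ρ ψ) (e : φ = ψ) (n : ℕ) :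
    trE P φ h n = trE P ψ h' n := by
  subst e
  rfl

theorem trE_zero {F : C} {ρ : Act k F} {φ : F ⟶ F} (h : Equi ρ ρ φ) (e : φ = 0) (n : ℕ) : trE P φ h n = 0 := by
  subst e
  have : lin P (0 : F ⟶ F) h n = 0 := by
    ext x
    exact post_zero n x
  rw [trE, this, map_zero]

theorem trE_nilpotent {F : C} {ρ : Act k F} {φ : F ⟶ F} (h : Equi ρ ρ φ) (m : ℕ)
    (e : (show End F from φ) ^ m = 0) (n : ℕ) : trE P φ h n = 0 := by
  apply trace_eq_zero_of_isNilpotent
  refine ⟨m, ?_⟩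
  have key : ∀ (m : ℕ) (x : V P ρ n), ((lin P φ h n) ^ m) x =
      post P ((show End F from φ) ^ m : F ⟶ F) n x := by
    intro m
    induction m with
    | zero =>
      intro x
      rw [pow_zero, pow_zero]
      exact (post_id n _).symm
    | succ m ih =>
      intro x
      rw [pow_succ, Module.End.mul_apply, ih, lin_apply, ← post_comp, pow_succ]
      rfl
  ext x
  rw [key, e]
  exact post_zero n x

end Groth.Agent.Fixpt.H903.ExtTr
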