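import Groth.Prelude.Def_FixPt
import Groth.Agent.Fixpt.H903.ExtTr
import Mathlib.FieldTheory.Finite.Basic

/-!
# The alternating trace of semilinear endomorphisms on coherent cohomology: dictionary

`X` over `Spec k`.  A map `φ : Coh.toAb M ⟶ Coh.toAb N` of underlying abelian sheaves is `IsSemi q` if
`φ (a t) = a ^ q φ t`.  If `c ^ q = c` for all `c : k` it is equivariant for the action of `k`, and
`FixPt.cohLef k X M φ` is the alternating trace of `ExtTr`.
-/

set_option autoImplicit false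
universe u

open CategoryTheory CategoryTheory.Limits AlgebraicGeometry Opposite TopologicalSpace
open Groth.Agent.Fixpt.H903.TrLin Groth.Agent.Fixpt.H903.ExtTr

namespace Groth.Agent.Fixpt.H903.GlobTr

variable {X : Scheme.{u}}

/-- The underlying abelian sheaf functor. -/
noncomputable abbrev toAbF (X : Scheme.{u}) : X.Modules ⥤ Sheaf (Opens.grothendieckTopology X) AddCommGrpCat.{u} :=
  SheafOfModules.toSheaf X.ringCatSheaf

/-- `q`-semilinear maps of the underlying abelian sheaves: `φ (a t) = a ^ q φ t`. -/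
def IsSemi (q : ℕ) {M N : X.Modules} (φ : Coh.toAb M ⟶ Coh.toAb N) : Prop :=
  ∀ (U : (X.Opens)ᵒᵖ) (a : Γ(X, U.unop)) (t : Γ(M, U.unop)),
    φ.hom.app U (a • t) =
      @HSMul.hSMul Γ(X, U.unop) Γ(N, U.unop) Γ(N, U.unop) instHSMul (a ^ q) (φ.hom.app U t)

theorem isSemi_of_hom {M N : X.Modules} (f : M ⟶ N) : IsSemi 1 ((toAbF X).map f) := by
  intro U a t
  rw [pow_one]
  exact (f.val.app U).hom.map_smul a t

theorem IsSemi.comp {q r : ℕ} {M N P : X.Modules} {φ : Coh.toAb M ⟶ Coh.toAb N}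
    {ψ : Coh.toAb N ⟶ Coh.toAb P} (hφ : IsSemi q φ) (hψ : IsSemi r ψ) : IsSemi (q * r) (φ ≫ ψ) := by
  intro U a t
  change ψ.hom.app U (φ.hom.app U (a • t)) = _
  rw [hφ U a t, hψ U (a ^ q) (φ.hom.app U t), pow_mul]
  rfl

theorem IsSemi.comp_hom {q : ℕ} {M N P : X.Modules} {φ : Coh.toAb M ⟶ Coh.toAb N}
    (hφ : IsSemi q φ) (g : N ⟶ P) : IsSemi q (φ ≫ (toAbF X).map g) := by
  have := hφ.comp (isSemi_of_hom g)
  rwa [mul_one] at this

theorem IsSemi.hom_comp {q : ℕ} {M N P : X.Modules} (f : M ⟶ N) {ψ : Coh.toAb N ⟶ Coh.toAb P}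
    (hψ : IsSemi q ψ) : IsSemi q ((toAbF X).map f ≫ ψ) := by
  have := (isSemi_of_hom f).comp hψ
  rwa [one_mul] at this

theorem IsSemi.add {q : ℕ} {M N : X.Modules} {φ ψ : Coh.toAb M ⟶ Coh.toAb N}
    (hφ : IsSemi q φ) (hψ : IsSemi q ψ) : IsSemi q (φ + ψ) := by
  intro U a t
  have h1 := hφ U a t
  have h2 := hψ U a t
  change φ.hom.app U (a • t) + ψ.hom.app U (a • t) =
    @HSMul.hSMul Γ(X, U.unop) Γ(N, U.unop) Γ(N, U.unop) instHSMul (a ^ q) (φ.hom.app U t + ψ.hom.app U t)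
  rw [h1, h2]
  exact (smul_add (M := Γ(X, U.unop)) (A := Γ(N, U.unop)) (a ^ q) (φ.hom.app U t) (ψ.hom.app U t)).symm

theorem IsSemi.zero (q : ℕ) (M N : X.Modules) : IsSemi q (0 : Coh.toAb M ⟶ Coh.toAb N) := by
  intro U a t
  change (0 : Γ(N, U.unop)) = (a ^ q) • (0 : Γ(N, U.unop))
  rw [smul_zero]

theorem IsSemi.neg {q : ℕ} {M N : X.Modules} {φ : Coh.toAb M ⟶ Coh.toAb N}
    (hφ : IsSemi q φ) : IsSemi q (-φ) := by
  intro U a t
  have h1 := hφ U a t
  change -(φ.hom.app U (a • t)) =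
    @HSMul.hSMul Γ(X, U.unop) Γ(N, U.unop) Γ(N, U.unop) instHSMul (a ^ q) (-(φ.hom.app U t))
  rw [h1]
  exact (smul_neg (M := Γ(X, U.unop)) (A := Γ(N, U.unop)) (a ^ q) (φ.hom.app U t)).symm

theorem IsSemi.sub {q : ℕ} {M N : X.Modules} {φ ψ : Coh.toAb M ⟶ Coh.toAb N}
    (hφ : IsSemi q φ) (hψ : IsSemi q ψ) : IsSemi q (φ - ψ) := by
  rw [sub_eq_add_neg]
  exact hφ.add hψ.neg

/-- Compatibility of a semilinear map with multiplication by global functions. -/
theorem smulAb_comp {q : ℕ} {M N : X.Modules} {φ : Coh.toAb M ⟶ Coh.toAb N} (hφ : IsSemi q φ)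
    (r : Coh.Γtop X) : Coh.smulAb M r ≫ φ = φ ≫ Coh.smulAb N (r ^ q) := by
  ext U m
  have h := hφ U (Coh.resTop X U r) m
  have e : Coh.resTop X U (r ^ q) = (Coh.resTop X U r) ^ q := map_pow _ _ _
  change φ.hom.app U ((Coh.smulAb M r).hom.app U m) = (Coh.smulAb N (r ^ q)).hom.app U (φ.hom.app U m)
  rw [Coh.smulAb_app, Coh.smulAb_app, e]
  exact h

section over

variable (k : Type u) [Field k] [X.Over (Spec (CommRingCat.of k))]

/-- The action of `k` on the abelian sheaf underlying `M`. -/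
noncomputable def actM (M : X.Modules) : Act k (Coh.toAb M) where
  act c := Coh.smulAb M (Coh.toGlobal (X ↘ Spec (CommRingCat.of k)) c)
  act_one := by rw [map_one, Coh.smulAb_one]
  act_mul a b := by rw [map_mul, Coh.smulAb_mul]
  act_add a b := by rw [map_add, Coh.smulAb_add]

variable (X) in
/-- The constant sheaf `ℤ`. -/
noncomputable abbrev ZX : Sheaf (Opens.grothendieckTopology X) AddCommGrpCat.{u} :=
  (constantSheaf (Opens.grothendieckTopology X) AddCommGrpCat.{u}).obj (AddCommGrpCat.of (ULift ℤ))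

/-- `H^i(X, M)` as a group of `ExtTr`. -/
noncomputable abbrev VM (M : X.Modules) (i : ℕ) : Type u := V (ZX X) (actM k M) i

/-- The comparison `H^i(X, M) ≃ VM k M i`. -/
noncomputable def eHH (M : X.Modules) (i : ℕ) : Coh.HH X M i ≃ₗ[k] VM k M i where
  toFun x := x
  invFun x := x
  map_add' _ _ := rfl
  map_smul' _ _ := rfl
  left_inv _ := rfl
  right_inv _ := rfl

variable {k}

theorem IsSemi.equi {q : ℕ} (hq : ∀ c : k, c ^ q = c) {M N : X.Modules} {φ : Coh.toAb M ⟶ Coh.toAb N}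
    (hφ : IsSemi q φ) : Equi (actM k M) (actM k N) φ := by
  intro c
  change Coh.smulAb M (Coh.toGlobal (X ↘ Spec (CommRingCat.of k)) c) ≫ φ =
    φ ≫ Coh.smulAb N (Coh.toGlobal (X ↘ Spec (CommRingCat.of k)) c)
  rw [smulAb_comp hφ, ← map_pow, hq]

theorem trAdd_congr {V : Type*} {W : Type*} [AddCommGroup V] [Module k V] [AddCommGroup W] [Module k W]
    (e : V ≃ₗ[k] W) (f : V →+ V) (g : W →ₗ[k] W) (hfg : ∀ x, e (f x) = g (e x)) :
    FixPt.trAdd k V f = LinearMap.trace k W g := by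
  have h0 : ∀ x, (e.symm.conj g) x = f x := by
    intro x
    rw [LinearEquiv.conj_apply]
    change e.symm (g (e x)) = f x
    rw [← hfg, LinearEquiv.symm_apply_apply]
  have hex : ∃ g : V →ₗ[k] V, (g : V → V) = f := ⟨e.symm.conj g, funext h0⟩
  rw [FixPt.trAdd, dif_pos hex]
  have h1 : Classical.choose hex = e.symm.conj g :=
    DFunLike.coe_injective ((Classical.choose_spec hex).trans (funext h0).symm)
  rw [h1, LinearMap.trace_conj']

theorem eHH_map {M : X.Modules} (φ : Coh.toAb M ⟶ Coh.toAb M) (hφ : Equi (actM k M) (actM k M) φ)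
    (i : ℕ) (x : Coh.HH X M i) : eHH k M i (Sheaf.H.map φ i x) = lin (ZX X) φ hφ i (eHH k M i x) := rfl

theorem trAdd_eq_trE {M : X.Modules} (φ : Coh.toAb M ⟶ Coh.toAb M) (hφ : Equi (actM k M) (actM k M) φ)
    (i : ℕ) : FixPt.trAdd k (Coh.HH X M i) (Sheaf.H.map φ i) = trE (ZX X) φ hφ i :=
  trAdd_congr (eHH k M i) _ _ (eHH_map φ hφ i)

theorem cohLef_eq_finsum {M : X.Modules} (φ : Coh.toAb M ⟶ Coh.toAb M) (hφ : Equi (actM k M) (actM k M) φ) :
    FixPt.cohLef k X M φ = ∑ᶠ i : ℕ, (-1 : k) ^ i * trE (ZX X) φ hφ i := by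
  refine finsum_congr fun i => ?_
  exact congrArg _ (trAdd_eq_trE φ hφ i)

theorem cohLef_eq_altE {M : X.Modules} (φ : Coh.toAb M ⟶ Coh.toAb M) (hφ : Equi (actM k M) (actM k M) φ)
    (N : ℕ) (h : ∀ i, N ≤ i → Subsingleton (VM k M i)) : FixPt.cohLef k X M φ = altE (ZX X) φ hφ N := by
  rw [cohLef_eq_finsum φ hφ]
  refine finsum_eq_sum_of_support_subset _ fun i hi => ?_
  simp only [Finset.coe_range, Set.mem_Iio]
  by_contra hN
  have := h i (not_lt.mp hN)
  exact hi (by simp only [trE_of_subsingleton, mul_zero])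

theorem finite_VM (M : X.Modules) (i : ℕ) (h : Module.Finite k (Coh.HH X M i)) : Module.Finite k (VM k M i) :=
  Module.Finite.equiv (eHH k M i)

theorem subsingleton_VM (M : X.Modules) (i : ℕ) (h : Subsingleton (Coh.HH X M i)) : Subsingleton (VM k M i) := h

end over

end Groth.Agent.Fixpt.H903.GlobTr
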