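import Groth.Prelude.Def_Coh

/-!
# The functor from `O_X`-modules to abelian sheaves is exact
-/

set_option autoImplicit false
universe u

open CategoryTheory CategoryTheory.Limits AlgebraicGeometry Opposite TopologicalSpace

namespace Groth.Agent.Fixpt.H903.ToAbExact

variable {X : Scheme.{u}}

/-- The underlying abelian sheaf functor. -/
noncomputable abbrev toAbF (X : Scheme.{u}) : X.Modules ⥤ Sheaf (Opens.grothendieckTopology X) AddCommGrpCat.{u} :=
  SheafOfModules.toSheaf X.ringCatSheaf

theorem preservesFiniteLimits (X : Scheme.{u}) : PreservesFiniteLimits (toAbF X) :=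
  inferInstanceAs (PreservesFiniteLimits (SheafOfModules.toSheaf.{u} X.ringCatSheaf))

theorem additive (X : Scheme.{u}) : (toAbF X).Additive :=
  inferInstanceAs ((SheafOfModules.toSheaf.{u} X.ringCatSheaf).Additive)

section general
variable {C : Type*} [Category C] {D : Type*} [Category D] {E : Type*} [Category E]

open CategoryTheory.Functor in
/-- If `L ⊣ R` with `R` fully faithful and `L ⋙ G` preserves colimits of shape `J`, so does `G`. -/
theorem preservesColimitsOfShape_of_reflective {J : Type*} [Category J] {L : C ⥤ D} {R : D ⥤ C} (adj : L ⊣ R)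
    [R.Full] [R.Faithful] [HasColimitsOfShape J C] (G : D ⥤ E) [PreservesColimitsOfShape J (L ⋙ G)] :
    PreservesColimitsOfShape J G := by
  refine ⟨fun {K} => ?_⟩
  have hL : PreservesColimitsOfShape J L := adj.leftAdjoint_preservesColimits.1
  have e : (K ⋙ R) ⋙ L ≅ K := Functor.associator _ _ _ ≪≫ Functor.isoWhiskerLeft K (asIso adj.counit) ≪≫ K.rightUnitor
  have : PreservesColimit ((K ⋙ R) ⋙ L) G := by
    refine preservesColimit_of_preserves_colimit_cocone (isColimitOfPreserves L (colimit.isColimit (K ⋙ R))) ?_
    exact isColimitOfPreserves (L ⋙ G) (colimit.isColimit (K ⋙ R))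
  exact preservesColimit_of_iso_diagram G e
end general

theorem preservesColimits_toSheaf (X : Scheme.{u}) (J : Type) [SmallCategory J]  :
    PreservesColimitsOfShape J (SheafOfModules.toSheaf.{u} X.ringCatSheaf) := by
  have : HasColimitsOfShape J AddCommGrpCat.{u} := inferInstance
  have : PreservesColimitsOfShape J (PresheafOfModules.sheafification.{u, u, u, u} (R := X.ringCatSheaf) (𝟙 X.ringCatSheaf.obj) ⋙
      SheafOfModules.toSheaf.{u} X.ringCatSheaf) :=
    preservesColimitsOfShape_of_natIso (PresheafOfModules.sheafificationCompToSheaf (R := X.ringCatSheaf) (𝟙 X.ringCatSheaf.obj)).symm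
  exact preservesColimitsOfShape_of_reflective (PresheafOfModules.sheafificationAdjunction (𝟙 X.ringCatSheaf.obj)) _

theorem preservesFiniteColimits (X : Scheme.{u}) : PreservesFiniteColimits (toAbF X) where
  preservesFiniteColimits J _ _ := preservesColimits_toSheaf X J

/-- The short exact sequence of underlying abelian sheaves. -/
theorem toAb_shortExact (S : ShortComplex X.Modules) (hS : S.ShortExact) :
    haveI := additive X
    (S.map (toAbF X)).ShortExact := by
  haveI := additive X
  haveI := preservesFiniteLimits X
  haveI := preservesFiniteColimits X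
  exact hS.map_of_exact (toAbF X)

end Groth.Agent.Fixpt.H903.ToAbExact
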