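import Mathlib.LinearAlgebra.Trace
import Mathlib.LinearAlgebra.FiniteDimensional.Lemmas
import Mathlib.Algebra.Exact.Basic
import Mathlib.Tactic.LinearCombination
import Mathlib.Tactic.Ring

/-!
# Traces in exact sequences of finite dimensional vector spaces

* `trace_of_exact`: additivity of the trace in a short exact sequence.
* `trOn w p`: the trace of `w` on a stable submodule `p`.
* `trace_eq_trOn_add_trOn`: for exact `A → B → C` with endomorphisms, `Tr B = Tr (im f) + Tr (im g)`.
* `alt_telescope`: the alternating sum bookkeeping.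
-/

set_option autoImplicit false

namespace Groth.Agent.Fixpt.H903.TrLin

/-- Additivity of the trace in a short exact sequence of finite dimensional vector spaces. -/
theorem trace_of_exact {k N₁ N₂ N₃ : Type*} [Field k] [AddCommGroup N₁] [Module k N₁]
    [AddCommGroup N₂] [Module k N₂] [AddCommGroup N₃] [Module k N₃]
    [Module.Finite k N₂]
    (i : N₁ →ₗ[k] N₂) (p : N₂ →ₗ[k] N₃) (hi : Function.Injective i) (hp : Function.Surjective p)
    (hex : Function.Exact i p) (f₁ : N₁ →ₗ[k] N₁) (f₂ : N₂ →ₗ[k] N₂) (f₃ : N₃ →ₗ[k] N₃)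
    (h1 : ∀ x, f₂ (i x) = i (f₁ x)) (h2 : ∀ x, p (f₂ x) = f₃ (p x)) :
    LinearMap.trace k N₂ f₂ = LinearMap.trace k N₁ f₁ + LinearMap.trace k N₃ f₃ := by
  have : Module.Finite k N₁ := Module.Finite.of_injective i hi
  have : Module.Finite k N₃ := Module.Finite.of_surjective p hp
  obtain ⟨s, hs⟩ := p.exists_rightInverse_of_surjective (LinearMap.range_eq_top.2 hp)
  have hs' : ∀ x, p (s x) = x := fun x => LinearMap.congr_fun hs x
  obtain ⟨r, hr⟩ := i.exists_leftInverse_of_injective (LinearMap.ker_eq_bot.2 hi)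
  have hr' : ∀ x, r (i x) = x := fun x => LinearMap.congr_fun hr x
  -- a retraction vanishing on the image of `s`
  let r' : N₂ →ₗ[k] N₁ := r ∘ₗ (LinearMap.id - s ∘ₗ p)
  have hpi : ∀ x, p (i x) = 0 := fun x => (hex (i x)).2 ⟨x, rfl⟩
  have key : ∀ x, i (r' x) + s (p x) = x := by
    intro x
    have : p (x - s (p x)) = 0 := by simp [hs']
    obtain ⟨y, hy⟩ := (hex _).1 this
    simp only [r', LinearMap.comp_apply, LinearMap.sub_apply, LinearMap.id_apply]
    rw [← hy, hr', hy]
    abel
  have hri : ∀ x, r' (i x) = x := by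
    intro x
    simp only [r', LinearMap.comp_apply, LinearMap.sub_apply, LinearMap.id_apply, hpi, map_zero,
      sub_zero, hr']
  have e : f₂ = (f₂ ∘ₗ i) ∘ₗ r' + (f₂ ∘ₗ s) ∘ₗ p := by
    ext x
    simp only [LinearMap.add_apply, LinearMap.comp_apply]
    rw [← map_add, key]
  rw [e, map_add, LinearMap.trace_comp_comm', LinearMap.trace_comp_comm' p (f₂ ∘ₗ s)]
  congr 2
  · ext x
    simp only [LinearMap.comp_apply, h1, hri]
  · ext x
    simp only [LinearMap.comp_apply, h2, hs']

section

variable {k : Type*} [Field k] {A B C : Type*} [AddCommGroup A] [Module k A]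
  [AddCommGroup B] [Module k B] [AddCommGroup C] [Module k C]

open scoped Classical in
/-- The trace of `w` on a submodule `p` stable under `w` (`0` if not stable). -/
noncomputable def trOn (w : B →ₗ[k] B) (p : Submodule k B) : k :=
  if h : ∀ x ∈ p, w x ∈ p then LinearMap.trace k p (w.restrict h) else 0

theorem trOn_eq (w : B →ₗ[k] B) (p : Submodule k B) (h : ∀ x ∈ p, w x ∈ p) :
    trOn w p = LinearMap.trace k p (w.restrict h) := by
  classical
  rw [trOn, dif_pos h]

theorem trOn_top (w : B →ₗ[k] B) : trOn w ⊤ = LinearMap.trace k B w := by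
  rw [trOn_eq w ⊤ (fun x _ => Submodule.mem_top)]
  have e := LinearMap.trace_conj' (w.restrict (p := ⊤) (q := ⊤) (fun x _ => Submodule.mem_top))
    (Submodule.topEquiv (R := k) (M := B))
  rw [← e]
  congr 1

theorem trOn_of_subsingleton (w : B →ₗ[k] B) (p : Submodule k B) [Subsingleton B] : trOn w p = 0 := by
  have h : ∀ x ∈ p, w x ∈ p := fun x hx => by rwa [Subsingleton.elim (w x) x]
  rw [trOn_eq w p h]
  have : w.restrict h = 0 := by ext x; exact Subsingleton.elim _ _
  rw [this, map_zero]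

/-- Trace on a source through an injective map onto the submodule. -/
theorem trOn_range_of_injective (f : A →ₗ[k] B) (hf : Function.Injective f) (a : A →ₗ[k] A)
    (b : B →ₗ[k] B) (hab : ∀ x, b (f x) = f (a x)) : trOn b (LinearMap.range f) = LinearMap.trace k A a := by
  have h : ∀ x ∈ LinearMap.range f, b x ∈ LinearMap.range f := by
    rintro _ ⟨y, rfl⟩
    exact ⟨a y, (hab y).symm⟩
  rw [trOn_eq b _ h]
  have e := LinearMap.trace_conj' a (LinearEquiv.ofInjective f hf)
  rw [← e]
  congr 1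
  ext ⟨_, y, rfl⟩
  have h1 : (LinearEquiv.ofInjective f hf).symm ⟨f y, y, rfl⟩ = y := by
    rw [LinearEquiv.symm_apply_eq]
    rfl
  simp only [LinearMap.coe_restrict_apply, LinearEquiv.conj_apply, LinearMap.comp_apply,
    LinearEquiv.coe_coe]
  erw [h1]
  rw [hab]
  rfl

/-- For exact `A → B → C` with compatible endomorphisms, `Tr B = Tr (im f) + Tr (im g)`. -/
theorem trace_eq_trOn_add_trOn [Module.Finite k B] (f : A →ₗ[k] B) (g : B →ₗ[k] C)
    (hfg : Function.Exact f g) (a : A →ₗ[k] A) (b : B →ₗ[k] B) (c : C →ₗ[k] C)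
    (hab : ∀ x, b (f x) = f (a x)) (hbc : ∀ x, c (g x) = g (b x)) :
    LinearMap.trace k B b = trOn b (LinearMap.range f) + trOn c (LinearMap.range g) := by
  have h1 : ∀ x ∈ LinearMap.range f, b x ∈ LinearMap.range f := by
    rintro _ ⟨y, rfl⟩
    exact ⟨a y, (hab y).symm⟩
  have h2 : ∀ x ∈ LinearMap.range g, c x ∈ LinearMap.range g := by
    rintro _ ⟨y, rfl⟩
    exact ⟨b y, (hbc y).symm⟩
  rw [trOn_eq b _ h1, trOn_eq c _ h2]
  refine trace_of_exact (LinearMap.range f).subtype (g.rangeRestrict) (Submodule.subtype_injective _)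
    g.surjective_rangeRestrict ?_ _ _ _ (fun x => rfl) (fun x => ?_)
  · intro x
    constructor
    · intro hx
      have : g x = 0 := congrArg Subtype.val hx
      obtain ⟨y, rfl⟩ := (hfg x).1 this
      exact ⟨⟨f y, y, rfl⟩, rfl⟩
    · rintro ⟨⟨_, y, rfl⟩, rfl⟩
      apply Subtype.ext
      exact (hfg (f y)).2 ⟨y, rfl⟩
  · apply Subtype.ext
    exact (hbc x).symm

/-- The trace of a nilpotent endomorphism vanishes. -/
theorem trace_eq_zero_of_isNilpotent (w : B →ₗ[k] B) (h : IsNilpotent w) : LinearMap.trace k B w = 0 :=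
  (LinearMap.isNilpotent_trace_of_isNilpotent h).eq_zero

end

/-- Alternating sum bookkeeping. -/
theorem alt_telescope {K : Type*} [CommRing K] (a b c α β δ : ℕ → K) (hb : ∀ i, b i = α i + β i)
    (hc : ∀ i, c i = β i + δ i) (ha : ∀ i, a (i + 1) = δ i + α (i + 1)) (ha0 : a 0 = α 0) (n : ℕ) :
    ∑ i ∈ Finset.range (n + 1), (-1 : K) ^ i * b i =
      ∑ i ∈ Finset.range (n + 1), (-1 : K) ^ i * a i + ∑ i ∈ Finset.range (n + 1), (-1 : K) ^ i * c i
        - (-1) ^ n * δ n := by
  induction n with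
  | zero => simp [hb, hc, ha0]; ring
  | succ n ih =>
    rw [Finset.sum_range_succ, ih, Finset.sum_range_succ (n := n + 1), Finset.sum_range_succ (n := n + 1), ha, hb, hc]
    ring

end Groth.Agent.Fixpt.H903.TrLin
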